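import Groth.Agent.L15.ExtZero.Presheaf
import Groth.Agent.L15.ExtSupp.Quot
import Groth.Agent.L15.ExtSupp.Acyclic
import Groth.Agent.L10.SheafModGroth
import Mathlib.CategoryTheory.Abelian.GrothendieckCategory.EnoughInjectives
import Mathlib.Algebra.Homology.ShortComplex.PreservesHomology
import Mathlib.CategoryTheory.Sites.CoverLifting
import Mathlib.CategoryTheory.Sites.LocallyInjective
import Mathlib.CategoryTheory.Sites.LeftExact
import Mathlib.CategoryTheory.Sites.LocallyBijective
import Mathlib.CategoryTheory.Preadditive.Injective.Preserves
import Mathlib.CategoryTheory.Adjunction.FullyFaithful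

/-! Extension by zero and restriction of sheaves of modules are exact. -/

set_option autoImplicit false

universe u

open CategoryTheory CategoryTheory.Limits Opposite

noncomputable section

namespace Groth.L15.ExtZero

attribute [local instance] Classical.propDecidable

variable {C : Type u} [SmallCategory C] {J : GrothendieckTopology C} (O : Sheaf J CommRingCat.{u}) (U : C)

instance enoughInjectives_mod : EnoughInjectives (ModSite.Mod O) := by
  haveI := Groth.L10.shMod_isGrothendieckAbelian (ModSite.ringSh O)
  infer_instance

variable {O U}

/-- The underlying presheaf of modules, over the restricted ring. -/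
abbrev val' (A : ModSite.Mod (O.over U)) :
    PresheafOfModules.{u} ((Over.forget U).op ⋙ (ModSite.ringSh O).obj) := A.val

/-- The presheaf extension by zero of a sheaf of modules. -/
abbrev jVal (A : ModSite.Mod (O.over U)) : PresheafOfModules.{u} (ModSite.ringSh O).obj :=
  jP U (val' A)

/-- The map underlying a map into a restriction. -/
abbrev under {A : ModSite.Mod (O.over U)} {N : ModSite.Mod O} (g : A ⟶ (ModSite.restr O U).obj N) :
    PresheafOfModules.presheaf (val' A) ⟶
      (Over.forget U).op ⋙ N.val.presheaf :=
  (PresheafOfModules.toPresheaf _).map g.val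

theorem under_isLin {A : ModSite.Mod (O.over U)} {N : ModSite.Mod O}
    (g : A ⟶ (ModSite.restr O U).obj N) :
    IsLin U (M := val' A) (N := N.val) (under g) := fun T r x => map_smul (g.val.app T).hom r x

/-- A map out of the presheaf extension gives a map into the restriction. -/
def back {A : ModSite.Mod (O.over U)} {N : ModSite.Mod O} (k : jVal A ⟶ N.val) :
    A ⟶ (ModSite.restr O U).obj N :=
  ⟨PresheafOfModules.homMk (M₁ := A.val) (M₂ := ((ModSite.restr O U).obj N).val) (unlift U k)
    (fun T r x => unlift_isLin U k T r x)⟩

theorem back_app {A : ModSite.Mod (O.over U)} {N : ModSite.Mod O} (k : jVal A ⟶ N.val)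
    (T : (Over U)ᵒᵖ) (x : A.val.obj T) :
    (back k).val.app T x = comp' U (unlift U k) T x := rfl

theorem injective_restr (I : ModSite.Mod O) [Injective I] : Injective ((ModSite.restr O U).obj I) := ⟨by
  intro A B g i _
  let adj := PresheafOfModules.sheafificationAdjunction (𝟙 (ModSite.ringSh O).obj)
  let S := PresheafOfModules.sheafification.{u} (𝟙 (ModSite.ringSh O).obj)
  let j := jMap U (R := (ModSite.ringSh O).obj) i.val
  have hinj : ∀ T, Function.Injective (i.val.app T) := fun T =>
    Groth.L15.ExtSupp.val_app_injective (O := O.over U) i T.unop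
  haveI : Mono j := by
    apply (PresheafOfModules.toPresheaf _).mono_of_mono_map
    haveI : ∀ Z, Mono (((PresheafOfModules.toPresheaf _).map j).app Z) := fun Z =>
      (AddCommGrpCat.mono_iff_injective _).mpr (jMap_injective U (R := (ModSite.ringSh O).obj) i.val hinj Z)
    exact NatTrans.mono_of_mono_app _
  haveI : Mono (S.map j) := inferInstance
  let L : jVal A ⟶ I.val := lift U (under g) (under_isLin g)
  obtain ⟨k, hk⟩ := Injective.factors ((adj.homEquiv _ _).symm L) (S.map j)
  let k' : jVal B ⟶ I.val := adj.homEquiv _ _ k
  have hk' : j ≫ k' = L := by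
    refine ((adj.homEquiv_naturality_left _ _).symm).trans ?_
    rw [hk, Equiv.apply_symm_apply]
  refine ⟨back k', SheafOfModules.Hom.ext (PresheafOfModules.hom_ext fun T => ?_)⟩
  refine ModuleCat.hom_ext (LinearMap.ext fun x => ?_)
  show (back k').val.app T (i.val.app T x) = g.val.app T x
  rw [back_app]
  refine (unlift_jMap_comp U (R := (ModSite.ringSh O).obj) i.val k' T x).symm.trans ?_
  rw [show jMap U (R := (ModSite.ringSh O).obj) i.val ≫ k' = L from hk']
  exact unlift_lift U (under g) (under_isLin g) T x⟩

instance preservesInjectiveObjects_restr : (ModSite.restr O U).PreservesInjectiveObjects :=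
  ⟨fun {I} hI => haveI := hI; injective_restr I⟩

instance preservesMonomorphisms_extZero : (ModSite.extZero O U).PreservesMonomorphisms := ⟨fun {A B} i _ => by
  let adj := ModSite.extZeroAdj O U
  let I := Injective.under ((ModSite.extZero O U).obj A)
  let a : (ModSite.extZero O U).obj A ⟶ I := Injective.ι _
  haveI : Injective ((ModSite.restr O U).obj I) := injective_restr I
  let b := Injective.factorThru (adj.homEquiv _ _ a) i
  have h : (ModSite.extZero O U).map i ≫ (adj.homEquiv _ _).symm b = a := by
    rw [← adj.homEquiv_naturality_left_symm, Injective.comp_factorThru, Equiv.symm_apply_apply]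
  exact mono_of_mono_fac h⟩

instance additive_extZero : (ModSite.extZero O U).Additive :=
  (ModSite.extZeroAdj O U).left_adjoint_additive

instance preservesFiniteColimits_extZero : PreservesFiniteColimits (ModSite.extZero O U) :=
  haveI := (ModSite.extZeroAdj O U).leftAdjoint_preservesColimits
  inferInstance

instance preservesFiniteLimits_extZero : PreservesFiniteLimits (ModSite.extZero O U) :=
  haveI : (ModSite.extZero O U).PreservesHomology :=
    Functor.preservesHomology_of_preservesMonos_and_cokernels _
  Functor.preservesFiniteLimits_of_preservesHomology _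

instance preservesEpimorphisms_restr : (ModSite.restr O U).PreservesEpimorphisms := ⟨fun {M N} f _ => by
  haveI : Epi ((SheafOfModules.toSheaf.{u} (ModSite.ringSh O)).map f) := inferInstance
  haveI : (J.overPullback AddCommGrpCat.{u} U).IsLeftAdjoint :=
    ((Over.forget U).sheafAdjunctionCocontinuous AddCommGrpCat.{u} (J.over U) J).isLeftAdjoint
  apply (SheafOfModules.toSheaf.{u} (ModSite.ringSh (O.over U))).epi_of_epi_map
  exact inferInstanceAs (Epi ((J.overPullback AddCommGrpCat.{u} U).map
    ((SheafOfModules.toSheaf.{u} (ModSite.ringSh O)).map f)))⟩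

instance preservesFiniteLimits_restr : PreservesFiniteLimits (ModSite.restr O U) :=
  haveI := (ModSite.extZeroAdj O U).rightAdjoint_preservesLimits
  inferInstance

instance preservesFiniteColimits_restr : PreservesFiniteColimits (ModSite.restr O U) :=
  haveI : (ModSite.restr O U).PreservesHomology :=
    Functor.preservesHomology_of_preservesEpis_and_kernels _
  Functor.preservesFiniteColimits_of_preservesHomology _

theorem unit_mono (M : ModSite.Mod (O.over U)) : Mono ((ModSite.extZeroAdj O U).unit.app M) := by
  let adj := PresheafOfModules.sheafificationAdjunction (𝟙 (ModSite.ringSh O).obj)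
  let η := adj.unit.app (jVal M)
  let N := (PresheafOfModules.sheafification.{u} (𝟙 (ModSite.ringSh O).obj)).obj (jVal M)
  let k : jVal M ⟶ N.val := η
  let g : M ⟶ (ModSite.restr O U).obj N := back k
  have hg : ∀ (T : (Over U)ᵒᵖ) (x : M.val.obj T), g.val.app T x = 0 → x = 0 := by
    intro T x hx
    let z : Tot U (val' M) (op T.unop.left) :=
      DirectSum.of (fun t => Fib U (val' M) (op T.unop.left) t) T.unop.hom x
    have hz : k.app (op T.unop.left) z = 0 := hx
    haveI : Presheaf.IsLocallyInjective J ((PresheafOfModules.toPresheaf _).map k) := by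
      have e : (PresheafOfModules.toPresheaf _).map k = CategoryTheory.toSheafify J (jVal M).presheaf :=
        PresheafOfModules.toPresheaf_map_sheafificationAdjunction_unit_app _ _
      rw [e]
      exact Presheaf.isLocallyInjective_toSheafify' (J := J) (jVal M).presheaf
    have hcov : Presheaf.equalizerSieve (F := (jVal M).presheaf) (X := op T.unop.left) z 0 ∈ J T.unop.left :=
      Presheaf.equalizerSieve_mem J ((PresheafOfModules.toPresheaf _).map k) z 0 (by
        show k.app (op T.unop.left) z = k.app (op T.unop.left) 0
        rw [hz, map_zero])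
    have hcov' : (Sieve.overEquiv T.unop).symm
        (Presheaf.equalizerSieve (F := (jVal M).presheaf) (X := op T.unop.left) z 0) ∈ (J.over U) T.unop :=
      J.overEquiv_symm_mem_over T.unop _ hcov
    refine Groth.L15.ExtSupp.sect_ext (O := O.over U) M _ hcov' x 0 fun W m hm => ?_
    rw [Sieve.overEquiv_symm_iff] at hm
    have h0 : totMap U (val' M) m.left.op z = 0 :=
      (show _ = totMap U (val' M) m.left.op 0 from hm).trans (map_zero _)
    have h1 : DirectSum.of (fun t => Fib U (val' M) (op W.left) t) W.hom
        (M.val.map m.op x) = 0 := by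
      rw [totMap_of] at h0
      refine Eq.trans ?_ h0
      exact of_congr U (val' M) (W := op W.left) (t := W.hom) m
        (Over.homMk m.left : Over.mk (m.left ≫ T.unop.hom) ⟶ T.unop) rfl (Over.w m).symm x
    have h2 : M.val.map m.op x = 0 := by
      classical
      exact DirectSum.of_injective W.hom (h1.trans (map_zero _).symm)
    exact h2.trans (map_zero _).symm
  haveI : Mono g := by
    refine ⟨fun {W} a b hab => SheafOfModules.Hom.ext (PresheafOfModules.hom_ext fun T => ?_)⟩
    refine ModuleCat.hom_ext (LinearMap.ext fun w => ?_)
    rw [← sub_eq_zero]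
    apply hg
    rw [map_sub, sub_eq_zero]
    exact congrArg (fun φ : W ⟶ (ModSite.restr O U).obj N => φ.val.app T w) hab
  have h : (ModSite.extZeroAdj O U).unit.app M ≫
      (ModSite.restr O U).map (((ModSite.extZeroAdj O U).homEquiv _ _).symm g) = g := by
    exact ((ModSite.extZeroAdj O U).homEquiv_unit _ _ _).symm.trans (Equiv.apply_symm_apply _ g)
  exact mono_of_mono_fac h

instance faithful_extZero : (ModSite.extZero O U).Faithful :=
  haveI := fun M => unit_mono (O := O) (U := U) M
  (ModSite.extZeroAdj O U).faithful_L_of_mono_unit_app

end Groth.L15.ExtZero
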