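import Mathlib.Algebra.Homology.DerivedCategory.Ext.MapBijective
import Mathlib.CategoryTheory.Adjunction.Additive

/-! An adjunction between exact functors gives isomorphisms of `Ext` groups. -/

set_option autoImplicit false

universe w w' v v' u u'

open CategoryTheory CategoryTheory.Limits CategoryTheory.Abelian

noncomputable section

namespace Groth.L15.ExtAdj

variable {C : Type u} [Category.{v} C] [Abelian C] {D : Type u'} [Category.{v'} D] [Abelian D]
  [HasExt.{w} C] [HasExt.{w'} D]
  {G : D ⥤ C} {F : C ⥤ D} (adj : G ⊣ F)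
  [F.Additive] [PreservesFiniteLimits F] [PreservesFiniteColimits F]

/-- The comparison map. -/
def β (A : D) (Y : C) (n : ℕ) : Ext.{w} (G.obj A) Y n →+ Ext.{w'} A (F.obj Y) n :=
  AddMonoidHom.mk' (fun x => (Ext.mk₀ (adj.unit.app A)).comp (x.mapExactFunctor F) (zero_add n))
    (fun x y => by simp)

theorem β_apply (A : D) (Y : C) (n : ℕ) (x : Ext.{w} (G.obj A) Y n) :
    β adj A Y n x = (Ext.mk₀ (adj.unit.app A)).comp (x.mapExactFunctor F) (zero_add n) := rfl

theorem β_comp {A : D} {Y Y' : C} {a b c : ℕ} (x : Ext.{w} (G.obj A) Y a) (y : Ext.{w} Y Y' b)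
    (h : a + b = c) :
    β adj A Y' c (x.comp y h) = (β adj A Y a x).comp (y.mapExactFunctor F) h := by
  rw [β_apply, β_apply, Ext.mapExactFunctor_comp]
  exact (Ext.comp_assoc _ _ _ (zero_add a) h (by omega)).symm

theorem β_zero_bijective (A : D) (Y : C) : Function.Bijective (β adj A Y 0) := by
  have : (β adj A Y 0 : Ext.{w} (G.obj A) Y 0 → Ext.{w'} A (F.obj Y) 0) =
      (Ext.homEquiv₀.{w'}.symm : (A ⟶ F.obj Y) → _) ∘ adj.homEquiv A Y ∘
        (Ext.homEquiv₀.{w} : Ext.{w} (G.obj A) Y 0 → _) := by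
    funext x
    obtain ⟨f, rfl⟩ := (Ext.mk₀_bijective (G.obj A) Y).2 x
    show _ = Ext.mk₀ (adj.homEquiv A Y (Ext.homEquiv₀ (Ext.mk₀ f)))
    rw [β_apply, Ext.mapExactFunctor_mk₀, Ext.mk₀_comp_mk₀, adj.homEquiv_unit]
    congr 3
    exact ((Ext.homEquiv₀.{w} (X := G.obj A) (Y := Y)).apply_symm_apply f).symm
  rw [this]
  exact Ext.homEquiv₀.symm.bijective.comp ((adj.homEquiv A Y).bijective.comp Ext.homEquiv₀.bijective)

theorem β_bijective [EnoughInjectives C] [G.PreservesMonomorphisms] (A : D) (Y : C) (n : ℕ) :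
    Function.Bijective (β adj A Y n) := by
  induction n generalizing Y with
  | zero => exact β_zero_bijective adj A Y
  | succ n hn =>
    let I : InjectivePresentation Y := Classical.arbitrary _
    let S := ShortComplex.mk _ _ (cokernel.condition I.f)
    haveI : Injective (S.map F).X₂ := Injective.injective_of_adjoint adj I.J
    haveI : Injective S.X₂ := I.injective
    have hS : S.ShortExact := { exact := ShortComplex.exact_cokernel I.f }
    exact AddMonoidHom.bijective_of_surjective_of_bijective_of_right_exact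
      ((Ext.mk₀ S.g).postcomp (G.obj A) (add_zero n)) (hS.extClass.postcomp (G.obj A) rfl)
      ((Ext.mk₀ (S.map F).g).postcomp A (add_zero n)) ((hS.map F).extClass.postcomp A rfl)
      (β adj A S.X₂ n) (β adj A S.X₃ n) (β adj A S.X₁ (n + 1))
      (AddMonoidHom.ext fun x => by
        show (β adj A S.X₂ n x).comp (Ext.mk₀ (S.map F).g) (add_zero n) =
          β adj A S.X₃ n (x.comp (Ext.mk₀ S.g) (add_zero n))
        rw [β_comp, Ext.mapExactFunctor_mk₀]
        rfl)
      (AddMonoidHom.ext fun x => by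
        show (β adj A S.X₃ n x).comp (hS.map F).extClass rfl =
          β adj A S.X₁ (n + 1) (x.comp hS.extClass rfl)
        rw [β_comp, Ext.mapExactFunctor_extClass]
        rfl)
      ((ShortComplex.ab_exact_iff_function_exact _).mp
        (Ext.covariant_sequence_exact₃' (G.obj A) hS n (n + 1) rfl))
      ((ShortComplex.ab_exact_iff_function_exact _).mp
        (Ext.covariant_sequence_exact₃' A (hS.map F) n (n + 1) rfl))
      (hn _).surjective (hn _)
      (fun x₁ ↦ Ext.covariant_sequence_exact₁ _ hS x₁ (Ext.eq_zero_of_injective _) rfl)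
      (fun y₁ ↦ Ext.covariant_sequence_exact₁ _ (hS.map F) y₁ (Ext.eq_zero_of_injective _) rfl)

/-- `Ext(G A, Y) ≅ Ext(A, F Y)` for adjoint exact functors. -/
def extEquiv [EnoughInjectives C] [G.PreservesMonomorphisms] (A : D) (Y : C) (n : ℕ) :
    Ext.{w} (G.obj A) Y n ≃+ Ext.{w'} A (F.obj Y) n :=
  AddEquiv.ofBijective (β adj A Y n) (β_bijective adj A Y n)

end Groth.L15.ExtAdj
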