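import Groth.Agent.L15.ExtZero.Exact
import Groth.Prelude.Def_ModSite2

/-! For a subterminal object, extension by zero of a restriction is a submodule. -/

set_option autoImplicit false
set_option backward.isDefEq.respectTransparency false

universe u

open CategoryTheory CategoryTheory.Limits Opposite

noncomputable section

namespace Groth.L15.ExtZero

attribute [local instance] Classical.propDecidable

variable {C : Type u} [SmallCategory C] {J : GrothendieckTopology C} {O : Sheaf J CommRingCat.{u}} {U : C}

theorem back_comp {A : ModSite.Mod (O.over U)} {N N' : ModSite.Mod O} (k : jVal A ⟶ N.val) (f : N ⟶ N') :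
    back k ≫ (ModSite.restr O U).map f = back (k ≫ f.val) := rfl

theorem back_lift {A : ModSite.Mod (O.over U)} {N : ModSite.Mod O} (g : A ⟶ (ModSite.restr O U).obj N) :
    back (lift U (under g) (under_isLin g)) = g :=
  SheafOfModules.Hom.ext (PresheafOfModules.hom_ext fun T => ModuleCat.hom_ext (LinearMap.ext fun x =>
    (back_app _ T x).trans (unlift_lift U (under g) (under_isLin g) T x)))

theorem lift_id_injective (hU : ∀ V : C, Subsingleton (V ⟶ U)) (F : ModSite.Mod O) (Z : Cᵒᵖ) :
    Function.Injective ((lift U (under (𝟙 ((ModSite.restr O U).obj F)))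
      (under_isLin (𝟙 ((ModSite.restr O U).obj F)))).app Z) := by
  let M := val' ((ModSite.restr O U).obj F)
  intro a b hab
  haveI := hU Z.unop
  refine DFinsupp.ext fun s => ?_
  have key : ∀ c : Tot U M Z,
      (lift U (under (𝟙 ((ModSite.restr O U).obj F))) (under_isLin (𝟙 _))).app Z c = (c s : Fib U M Z s) := by
    intro c
    have hc : c = DirectSum.of (fun t => Fib U M Z t) s (c s) := by
      refine DFinsupp.ext fun t => ?_
      obtain rfl := Subsingleton.elim t s
      exact (DirectSum.of_eq_same _ _).symm
    conv_lhs => rw [hc]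
    exact lift_of U _ _ Z s _
  exact (key a).symm.trans (hab.trans (key b))

theorem mono_counit (hU : ∀ V : C, Subsingleton (V ⟶ U)) (F : ModSite.Mod O) :
    Mono ((ModSite.extZeroAdj O U).counit.app F) := by
  let adj := PresheafOfModules.sheafificationAdjunction (𝟙 (ModSite.ringSh O).obj)
  let S := PresheafOfModules.sheafification.{u} (𝟙 (ModSite.ringSh O).obj)
  let A := (ModSite.restr O U).obj F
  let L : jVal A ⟶ F.val := lift U (under (𝟙 A)) (under_isLin (𝟙 A))
  haveI : Mono L := by
    apply (PresheafOfModules.toPresheaf _).mono_of_mono_map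
    haveI : ∀ Z, Mono (((PresheafOfModules.toPresheaf _).map L).app Z) := fun Z =>
      (AddCommGrpCat.mono_iff_injective _).mpr (lift_id_injective hU F Z)
    exact NatTrans.mono_of_mono_app _
  let Lh : S.obj (jVal A) ⟶ F := (adj.homEquiv _ _).symm L
  haveI : Mono (S.map L) := inferInstance
  haveI : IsIso (adj.counit.app F) := inferInstance
  haveI : Mono Lh := by
    rw [show Lh = S.map L ≫ adj.counit.app F from adj.homEquiv_counit _ _ _]
    exact mono_comp _ _
  let η : jVal A ⟶ (S.obj (jVal A)).val := adj.unit.app (jVal A)
  let φ : (ModSite.extZero O U).obj A ⟶ S.obj (jVal A) :=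
    ((ModSite.extZeroAdj O U).homEquiv _ _).symm (back η)
  let u := (ModSite.extZeroAdj O U).unit.app A
  have hφ : u ≫ (ModSite.restr O U).map φ = back η :=
    ((ModSite.extZeroAdj O U).homEquiv_unit _ _ _).symm.trans (Equiv.apply_symm_apply _ _)
  have key : ∀ {N : ModSite.Mod O} (g : A ⟶ (ModSite.restr O U).obj N),
      ((ModSite.extZeroAdj O U).homEquiv _ _) (φ ≫ (adj.homEquiv _ _).symm (lift U (under g) (under_isLin g))) = g := by
    intro N g
    rw [(ModSite.extZeroAdj O U).homEquiv_unit, Functor.map_comp, ← Category.assoc, hφ, back_comp]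
    have h1 : η ≫ ((adj.homEquiv _ _).symm (lift U (under g) (under_isLin g))).val = lift U (under g) (under_isLin g) :=
      (adj.homEquiv_unit _ _ _).symm.trans (Equiv.apply_symm_apply _ _)
    exact (congrArg back h1).trans (back_lift g)
  have hid : φ ≫ (adj.homEquiv _ _).symm (lift U (under u) (under_isLin u)) = 𝟙 _ := by
    apply ((ModSite.extZeroAdj O U).homEquiv _ _).injective
    rw [key, (ModSite.extZeroAdj O U).homEquiv_id]
  haveI : Mono φ := mono_of_mono_fac hid
  have hε : (ModSite.extZeroAdj O U).counit.app F = φ ≫ Lh := by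
    apply ((ModSite.extZeroAdj O U).homEquiv _ _).injective
    refine Eq.trans ?_ (key (𝟙 A)).symm
    rw [(ModSite.extZeroAdj O U).homEquiv_unit]
    exact (ModSite.extZeroAdj O U).right_triangle_components F
  rw [hε]
  exact mono_comp _ _

variable [ModSite.HasPushOver O U]

/-- The unit `I ⟶ j_*(I|_U)` is a split epimorphism for an injective module and a subterminal `U`. -/
theorem epi_unit_of_injective (hU : ∀ V : C, Subsingleton (V ⟶ U)) (I : ModSite.Mod O) [Injective I] :
    Epi ((ModSite.restrPushOverAdj O U).unit.app I) := by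
  let adj := ModSite.restrPushOverAdj O U
  let adj' := ModSite.extZeroAdj O U
  let P := (ModSite.pushOver O U).obj ((ModSite.restr O U).obj I)
  let h : (ModSite.restr O U).obj P ⟶ (ModSite.restr O U).obj I := (adj.homEquiv _ _).symm (𝟙 P)
  haveI := mono_counit hU P
  let σ : P ⟶ I := Injective.factorThru ((adj'.homEquiv _ _).symm h) (adj'.counit.app P)
  have hσ : (ModSite.restr O U).map σ = h := by
    apply (adj'.homEquiv _ _).symm.injective
    refine Eq.trans ?_ (Injective.comp_factorThru ((adj'.homEquiv _ _).symm h) (adj'.counit.app P))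
    rw [adj'.homEquiv_counit]
    exact adj'.counit.naturality σ
  have hfac : σ ≫ adj.unit.app I = 𝟙 P := by
    apply (adj.homEquiv _ _).symm.injective
    show _ = h
    rw [← hσ, adj.homEquiv_counit, Functor.map_comp, Category.assoc]
    exact (congrArg ((ModSite.restr O U).map σ ≫ ·) (adj.left_triangle_components I)).trans (Category.comp_id _)
  exact epi_of_epi_fac hfac

end Groth.L15.ExtZero
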