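import Groth.Agent.L15.ExtZero.Exact
import Groth.Agent.L15.ExtSupp.HomZ
import Groth.Prelude.Def_ExtSupp
import Mathlib.CategoryTheory.Limits.Shapes.BinaryProducts
import Mathlib.CategoryTheory.Sites.CoversTop.Basic

/-! Excision for `M/M_U` along a subterminal object `V` covering together with `U`. -/

set_option autoImplicit false

universe u

open CategoryTheory CategoryTheory.Limits Opposite

noncomputable section

namespace Groth.L15.ExtZero

attribute [local instance] Classical.propDecidable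

open Groth.L15.ExtSupp (res sect_ext res_natural val_app_eq_zero_of_restr counit_comp_eq_zero_iff)

variable {C : Type u} [SmallCategory C] [HasBinaryProducts C] {J : GrothendieckTopology C}
  {O : Sheaf J CommRingCat.{u}} {U V : C}

/-- The trace of `U` on `C/V`. -/
abbrev WW (U V : C) : Over V := Over.mk (prod.snd : U ⨯ V ⟶ V)

theorem res_res (F : ModSite.Mod O) {X Y Z : C} (g : Y ⟶ X) (h : Z ⟶ Y) (x : ModSite.sect F X) :
    res F h (res F g x) = res F (h ≫ g) x := by
  show F.val.map h.op (F.val.map g.op x) = F.val.map (h ≫ g).op x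
  rw [op_comp, PresheafOfModules.map_comp_apply]

theorem cond_cases (hUV : J.CoversTop (fun b : Bool => cond b U V)) (X : C) :
    ∃ S : Sieve X, S ∈ J X ∧ ∀ ⦃Y : C⦄ (f : Y ⟶ X), S f → Nonempty (Y ⟶ U) ∨ Nonempty (Y ⟶ V) := by
  refine ⟨Sieve.ofObjects _ X, hUV X, fun Y f hf => ?_⟩
  obtain ⟨b, ⟨g⟩⟩ := hf
  cases b
  · exact Or.inr ⟨g⟩
  · exact Or.inl ⟨g⟩

theorem ext_of_restr (hUV : J.CoversTop (fun b : Bool => cond b U V)) {M N : ModSite.Mod O} (a : M ⟶ N)
    (hU : (ModSite.restr O U).map a = 0) (hV : (ModSite.restr O V).map a = 0) : a = 0 := by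
  refine SheafOfModules.Hom.ext (PresheafOfModules.hom_ext fun X => ModuleCat.hom_ext (LinearMap.ext fun x => ?_))
  obtain ⟨S, hS, hcase⟩ := cond_cases hUV X.unop
  refine sect_ext N S hS _ _ fun Y f hf => ?_
  refine Eq.trans ?_ (map_zero (N.val.map f.op).hom).symm
  show res N f (a.val.app (op X.unop) x) = 0
  rw [res_natural a f x]
  rcases hcase f hf with ⟨⟨g⟩⟩ | ⟨⟨g⟩⟩
  · exact val_app_eq_zero_of_restr U a hU g _
  · exact val_app_eq_zero_of_restr V a hV g _

variable {M N : ModSite.Mod O} (ψ : (ModSite.restr O V).obj M ⟶ (ModSite.restr O V).obj N)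

/-- A component of `ψ`. -/
def comp₀ {Y : C} (g : Y ⟶ V) (x : ModSite.sect M Y) : ModSite.sect N Y := (ψ.val.app (op (Over.mk g))).hom x

theorem comp₀_add {Y : C} (g : Y ⟶ V) (x y : ModSite.sect M Y) :
    comp₀ ψ g (x + y) = comp₀ ψ g x + comp₀ ψ g y := map_add (ψ.val.app (op (Over.mk g))).hom x y

theorem comp₀_smul {Y : C} (g : Y ⟶ V) (r : (ModSite.ringSh O).obj.obj (op Y)) (x : ModSite.sect M Y) :
    comp₀ ψ g (r • x) = r • comp₀ ψ g x := map_smul (ψ.val.app (op (Over.mk g))).hom r x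

theorem comp₀_res {Y Z : C} (g : Y ⟶ V) (h : Z ⟶ Y) (x : ModSite.sect M Y) :
    res N h (comp₀ ψ g x) = comp₀ ψ (h ≫ g) (res M h x) :=
  (PresheafOfModules.naturality_apply ψ.val (Over.homMk h : Over.mk (h ≫ g) ⟶ Over.mk g).op x).symm

variable (hV : ∀ X : C, Subsingleton (X ⟶ V))

/-- The local prescription of the extension. -/
def fam {X : C} (S : Sieve X) (x : ModSite.sect M X) :
    Presieve.FamilyOfElements (N.val.presheaf ⋙ forget AddCommGrpCat.{u}) S.arrows :=
  fun Y f _ => if h : Nonempty (Y ⟶ V) then comp₀ ψ h.some (res M f x) else (0 : ModSite.sect N Y)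

include hV in
theorem fam_of {X Y : C} (S : Sieve X) (x : ModSite.sect M X) (f : Y ⟶ X) (hf : S f) (g : Y ⟶ V) :
    fam ψ S x f hf = comp₀ ψ g (res M f x) := by
  haveI := hV Y
  have h : Nonempty (Y ⟶ V) := ⟨g⟩
  rw [fam, dif_pos h, Subsingleton.elim h.some g]

theorem fam_zero {X Y : C} (S : Sieve X) (x : ModSite.sect M X) (f : Y ⟶ X) (hf : S f)
    (hn : ¬ Nonempty (Y ⟶ V)) : fam ψ S x f hf = (0 : ModSite.sect N Y) := by
  rw [fam, dif_neg hn]

variable (hW : (ModSite.restr (O.over V) (WW U V)).map ψ = 0)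

include hV hW in
theorem comp₀_zero {Y : C} (a : Y ⟶ U) (g : Y ⟶ V) (x : ModSite.sect M Y) : comp₀ ψ g x = 0 :=
  val_app_eq_zero_of_restr (O := O.over V) (WW U V) ψ hW
    (Over.homMk (prod.lift a g) (prod.lift_snd a g) : Over.mk g ⟶ WW U V) x

variable (hUV : J.CoversTop (fun b : Bool => cond b U V))

include hV hW hUV in
theorem exists_glue (X : C) (x : ModSite.sect M X) :
    ∃ y : ModSite.sect N X, (∀ ⦃Y : C⦄ (f : Y ⟶ X) (g : Y ⟶ V), res N f y = comp₀ ψ g (res M f x)) ∧
      ∀ ⦃Y : C⦄ (f : Y ⟶ X) (_ : Y ⟶ U), res N f y = 0 := by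
  let S : Sieve X :=
    { arrows := fun Y _ => Nonempty (Y ⟶ U) ∨ Nonempty (Y ⟶ V)
      downward_closed := fun {Y Z f} h g => by
        rcases h with ⟨⟨a⟩⟩ | ⟨⟨a⟩⟩
        · exact Or.inl ⟨g ≫ a⟩
        · exact Or.inr ⟨g ≫ a⟩ }
  have hS : S ∈ J X := by
    obtain ⟨S', hS', hcase⟩ := cond_cases hUV X
    exact J.superset_covering (fun Y f hf => hcase f hf) hS'
  have key : ∀ ⦃Y Z : C⦄ (f : Y ⟶ X) (hf : S f) (h : Z ⟶ Y),
      (res N h (fam ψ S x f hf : ModSite.sect N Y)) = fam ψ S x (h ≫ f) (S.downward_closed hf h) := by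
    intro Y Z f hf h
    by_cases hy : Nonempty (Y ⟶ V)
    · obtain ⟨g⟩ := hy
      rw [fam_of ψ hV S x f hf g, fam_of ψ hV S x (h ≫ f) _ (h ≫ g), comp₀_res, res_res]
    · obtain ⟨a⟩ := hf.resolve_right hy
      rw [fam_zero ψ S x f hf hy]
      refine (map_zero (N.val.map h.op).hom).trans ?_
      by_cases hz : Nonempty (Z ⟶ V)
      · obtain ⟨g⟩ := hz
        rw [fam_of ψ hV S x (h ≫ f) _ g]
        exact (comp₀_zero ψ hV hW (h ≫ a) g _).symm
      · exact (fam_zero ψ S x (h ≫ f) _ hz).symm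
  have hc : (fam ψ S x).Compatible := by
    rw [Presieve.compatible_iff_sieveCompatible]
    intro Y Z f g hf
    exact (key f hf g).symm
  have hsh : Presieve.IsSheafFor (N.val.presheaf ⋙ forget AddCommGrpCat.{u}) S.arrows :=
    (isSheaf_iff_isSheaf_of_type _ _).1
      ((Presheaf.isSheaf_iff_isSheaf_forget J _ (forget AddCommGrpCat.{u})).1 N.isSheaf) S hS
  refine ⟨hsh.amalgamate _ hc, fun Y f g => ?_, fun Y f a => ?_⟩
  · exact (hsh.valid_glue hc f (Or.inr ⟨g⟩)).trans (fam_of ψ hV S x f _ g)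
  · refine (hsh.valid_glue hc f (Or.inl ⟨a⟩)).trans ?_
    by_cases hy : Nonempty (Y ⟶ V)
    · obtain ⟨g⟩ := hy
      rw [fam_of ψ hV S x f _ g]
      exact comp₀_zero ψ hV hW a g _
    · exact fam_zero ψ S x f _ hy

include hV hW hUV in
theorem exists_extension : ∃ φ : M ⟶ N, (ModSite.restr O U).map φ = 0 ∧ (ModSite.restr O V).map φ = ψ := by
  choose y hyV hyU using fun X : C => exists_glue ψ hV hW hUV X
  have huniq : ∀ (X : C) (z z' : ModSite.sect N X),
      (∀ ⦃Y : C⦄ (f : Y ⟶ X) (_ : Y ⟶ V), res N f z = res N f z') →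
      (∀ ⦃Y : C⦄ (f : Y ⟶ X) (_ : Y ⟶ U), res N f z = res N f z') → z = z' := by
    intro X z z' h1 h2
    obtain ⟨S, hS, hcase⟩ := cond_cases hUV X
    refine sect_ext N S hS _ _ fun Y f hf => ?_
    rcases hcase f hf with ⟨⟨g⟩⟩ | ⟨⟨g⟩⟩
    · exact h2 f g
    · exact h1 f g
  have hadd : ∀ (X : C) (x x' : ModSite.sect M X), y X (x + x') = y X x + y X x' := by
    intro X x x'
    refine huniq X _ _ (fun Y f g => ?_) (fun Y f a => ?_)
    · refine (hyV X _ f g).trans ?_
      rw [show res M f (x + x') = res M f x + res M f x' from map_add (M.val.map f.op).hom x x',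
        comp₀_add, ← hyV X x f g, ← hyV X x' f g]
      exact (map_add (N.val.map f.op).hom _ _).symm
    · refine (hyU X _ f a).trans ?_
      refine Eq.trans ?_ (map_add (N.val.map f.op).hom _ _).symm
      exact (add_zero _).symm.trans (congrArg₂ (· + ·) (hyU X x f a).symm (hyU X x' f a).symm)
  have hsmul : ∀ (X : C) (r : (ModSite.ringSh O).obj.obj (op X)) (x : ModSite.sect M X),
      y X (r • x) = r • y X x := by
    intro X r x
    refine huniq X _ _ (fun Y f g => ?_) (fun Y f a => ?_)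
    · refine (hyV X _ f g).trans ?_
      rw [show res M f (r • x) = (ModSite.ringSh O).obj.map f.op r • res M f x from M.val.map_smul f.op r x,
        comp₀_smul, ← hyV X x f g]
      exact (N.val.map_smul f.op r _).symm
    · refine (hyU X _ f a).trans ?_
      refine Eq.trans ?_ (N.val.map_smul f.op r _).symm
      rw [show N.val.map f.op (y X x) = (0 : ModSite.sect N Y) from hyU X x f a]
      exact (smul_zero _).symm
  have hnat : ∀ ⦃X X' : C⦄ (h : X' ⟶ X) (x : ModSite.sect M X), y X' (res M h x) = res N h (y X x) := by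
    intro X X' h x
    refine huniq X' _ _ (fun Y f g => ?_) (fun Y f a => ?_)
    · rw [hyV X' _ f g, res_res, res_res, hyV X x (f ≫ h) g]
    · rw [hyU X' _ f a, res_res, hyU X x (f ≫ h) a]
  let φ : M ⟶ N := ⟨PresheafOfModules.homMk
    { app := fun X => AddCommGrpCat.ofHom (AddMonoidHom.mk' (y X.unop) (hadd X.unop))
      naturality := fun X X' h => AddCommGrpCat.hom_ext (AddMonoidHom.ext fun x => hnat h.unop x) }
    (fun X r x => hsmul X.unop r x)⟩
  have happ : ∀ (X : Cᵒᵖ) (x : M.val.obj X), φ.val.app X x = y X.unop x := fun _ _ => rfl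
  refine ⟨φ, Groth.L15.ExtSupp.restr_map_eq_zero U φ fun Y a x => ?_, ?_⟩
  · rw [happ]
    have := hyU Y x (𝟙 Y) a
    rwa [show res N (𝟙 Y) (y Y x) = y Y x by
      show N.val.map (𝟙 Y).op _ = _
      rw [op_id, PresheafOfModules.map_id]; rfl] at this
  · refine SheafOfModules.Hom.ext (PresheafOfModules.hom_ext fun T => ModuleCat.hom_ext (LinearMap.ext fun x => ?_))
    show φ.val.app (op T.unop.left) x = comp₀ ψ T.unop.hom x
    rw [happ]
    have := hyV T.unop.left x (𝟙 _) T.unop.hom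
    rwa [show ∀ (F : ModSite.Mod O) (z : ModSite.sect F T.unop.left), res F (𝟙 _) z = z from fun F z => by
      show F.val.map (𝟙 _).op _ = _
      rw [op_id, PresheafOfModules.map_id]; rfl,
      show ∀ (F : ModSite.Mod O) (z : ModSite.sect F T.unop.left), res F (𝟙 _) z = z from fun F z => by
      show F.val.map (𝟙 _).op _ = _
      rw [op_id, PresheafOfModules.map_id]; rfl] at this

end Groth.L15.ExtZero

namespace Groth.L15.ExtZero

variable {C : Type u} [SmallCategory C] [HasBinaryProducts C] {J : GrothendieckTopology C}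
  {O : Sheaf J CommRingCat.{u}} {U V : C}

open Groth.L15.ExtSupp (val_app_eq_zero_of_restr counit_comp_eq_zero_iff restr_map_eq_zero)

theorem restr_restr_eq_zero {M N : ModSite.Mod O} (φ : M ⟶ N) (h : (ModSite.restr O U).map φ = 0) :
    (ModSite.restr (O.over V) (WW U V)).map ((ModSite.restr O V).map φ) = 0 :=
  restr_map_eq_zero (O := O.over V) (WW U V) _ fun Y g x =>
    val_app_eq_zero_of_restr U φ h (g.left ≫ prod.fst) x

/-- Excision: `M/M_U` is extended by zero from `C/V`. -/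
theorem nonempty_quotOn_iso (hV : ∀ X : C, Subsingleton (X ⟶ V))
    (hUV : J.CoversTop (fun b : Bool => cond b U V)) (M : ModSite.Mod O) :
    Nonempty ((ModSite.extZero O V).obj ((ModSite.quotOn (O.over V) (WW U V)).obj ((ModSite.restr O V).obj M)) ≅
      (ModSite.quotOn O U).obj M) := by
  let P := (ModSite.quotOn (O.over V) (WW U V)).obj ((ModSite.restr O V).obj M)
  let πW : (ModSite.restr O V).obj M ⟶ P := cokernel.π _
  let πU : M ⟶ (ModSite.quotOn O U).obj M := cokernel.π _
  haveI : Epi πW := inferInstanceAs (Epi (cokernel.π _))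
  haveI : Epi πU := inferInstanceAs (Epi (cokernel.π _))
  have hU : (ModSite.restr O U).map πU = 0 := (counit_comp_eq_zero_iff U πU).mp (cokernel.condition _)
  let d : P ⟶ (ModSite.restr O V).obj ((ModSite.quotOn O U).obj M) :=
    cokernel.desc _ ((ModSite.restr O V).map πU)
      ((counit_comp_eq_zero_iff (O := O.over V) (WW U V) _).mpr (restr_restr_eq_zero πU hU))
  have hd : πW ≫ d = (ModSite.restr O V).map πU := cokernel.π_desc _ _ _
  let adj := ModSite.extZeroAdj O V
  let Φ := (adj.homEquiv _ _).symm d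
  have hcomp : ∀ (N : ModSite.Mod O) (a : (ModSite.quotOn O U).obj M ⟶ N),
      adj.homEquiv P N (Φ ≫ a) = d ≫ (ModSite.restr O V).map a := fun N a => by
    rw [adj.homEquiv_naturality_right, Equiv.apply_symm_apply]
  have hinj : ∀ (N : ModSite.Mod O) (a b : (ModSite.quotOn O U).obj M ⟶ N), Φ ≫ a = Φ ≫ b → a = b := by
    intro N a b hab
    have h1 : d ≫ (ModSite.restr O V).map a = d ≫ (ModSite.restr O V).map b := by
      rw [← hcomp, ← hcomp, hab]
    have h2 : πU ≫ a - πU ≫ b = 0 := by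
      refine ext_of_restr hUV _ ?_ ?_
      · rw [Functor.map_sub, Functor.map_comp, Functor.map_comp, hU, zero_comp, zero_comp, sub_zero]
      · rw [Functor.map_sub, Functor.map_comp, Functor.map_comp, ← hd, Category.assoc, Category.assoc, h1,
          sub_self]
    exact (cancel_epi πU).mp (sub_eq_zero.mp h2)
  have hsurj : ∀ (N : ModSite.Mod O) (c : (ModSite.extZero O V).obj P ⟶ N), ∃ a, Φ ≫ a = c := by
    intro N c
    let ψ := πW ≫ adj.homEquiv P N c
    have hψ : (ModSite.restr (O.over V) (WW U V)).map ψ = 0 := by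
      apply (counit_comp_eq_zero_iff (O := O.over V) (WW U V) ψ).mp
      show _ ≫ πW ≫ _ = 0
      rw [← Category.assoc]
      exact (eq_whisker (cokernel.condition _) _).trans zero_comp
    obtain ⟨φ, hφU, hφV⟩ := exists_extension ψ hV hψ hUV
    let a : (ModSite.quotOn O U).obj M ⟶ N :=
      cokernel.desc _ φ ((counit_comp_eq_zero_iff U φ).mpr hφU)
    refine ⟨a, (adj.homEquiv P N).injective ?_⟩
    rw [hcomp, ← cancel_epi πW, ← Category.assoc, hd, ← Functor.map_comp,
      show πU ≫ a = φ from cokernel.π_desc _ _ _, hφV]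
  obtain ⟨b, hb⟩ := hsurj _ (𝟙 _)
  have hb' : b ≫ Φ = 𝟙 _ := hinj _ _ _ (by rw [reassoc_of% hb, Category.comp_id])
  exact ⟨⟨Φ, b, hb, hb'⟩⟩

end Groth.L15.ExtZero
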