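import Mathlib.Algebra.Category.ModuleCat.Presheaf
import Mathlib.Algebra.DirectSum.Module
import Mathlib.CategoryTheory.Comma.Over.Basic

/-! Extension by zero of presheaves of modules from a slice. -/

set_option autoImplicit false

universe u

open CategoryTheory Opposite DirectSum

noncomputable section

namespace Groth.L15.ExtZero

attribute [local instance] Classical.propDecidable

variable {C : Type u} [SmallCategory C] (U : C) {R : Cᵒᵖ ⥤ RingCat.{u}}
  (M M' : PresheafOfModules.{u} ((Over.forget U).op ⋙ R))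

/-- The summands. -/
abbrev Fib (Z : Cᵒᵖ) (s : Z.unop ⟶ U) : Type u := M.obj (op (Over.mk s))

instance fibModule (Z : Cᵒᵖ) (s : Z.unop ⟶ U) : Module (R.obj Z) (Fib U M Z s) :=
  inferInstanceAs (Module (((Over.forget U).op ⋙ R).obj (op (Over.mk s))) (M.obj (op (Over.mk s))))

/-- Restriction between summands. -/
def fibMap {Z W : Cᵒᵖ} (g : Z ⟶ W) (s : Z.unop ⟶ U) : Fib U M Z s →+ Fib U M W (g.unop ≫ s) :=
  (M.presheaf.map (Over.homMk g.unop : Over.mk (g.unop ≫ s) ⟶ Over.mk s).op).hom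

theorem fibMap_smul {Z W : Cᵒᵖ} (g : Z ⟶ W) (s : Z.unop ⟶ U) (r : R.obj Z) (x : Fib U M Z s) :
    fibMap U M g s (r • x) = R.map g r • fibMap U M g s x :=
  M.map_smul (Over.homMk g.unop : Over.mk (g.unop ≫ s) ⟶ Over.mk s).op r x

/-- The sum of the summands over `Z`. -/
abbrev Tot (Z : Cᵒᵖ) : Type u := ⨁ s : Z.unop ⟶ U, Fib U M Z s

theorem of_congr {X : Over U} {W : Cᵒᵖ} {t t' : W.unop ⟶ U} (a : Over.mk t ⟶ X) (b : Over.mk t' ⟶ X)
    (h : a.left = b.left) (ht : t = t') (x : M.obj (op X)) :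
    DirectSum.of (fun s => Fib U M W s) t (M.presheaf.map a.op x) =
      DirectSum.of (fun s => Fib U M W s) t' (M.presheaf.map b.op x) := by
  subst ht
  rw [show a = b from Over.OverMorphism.ext h]

/-- Restriction of sums. -/
def totMap {Z W : Cᵒᵖ} (g : Z ⟶ W) : Tot U M Z →+ Tot U M W :=
  DirectSum.toAddMonoid fun s => (DirectSum.of (fun t => Fib U M W t) (g.unop ≫ s)).comp (fibMap U M g s)

@[simp]
theorem totMap_of {Z W : Cᵒᵖ} (g : Z ⟶ W) (s : Z.unop ⟶ U) (x : Fib U M Z s) :
    totMap U M g (DirectSum.of _ s x) =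
      DirectSum.of (fun t => Fib U M W t) (g.unop ≫ s) (fibMap U M g s x) := by
  simp [totMap]

theorem totMap_totMap {Z W T : Cᵒᵖ} (g : Z ⟶ W) (h : W ⟶ T) :
    totMap U M (g ≫ h) = (totMap U M h).comp (totMap U M g) := by
  refine DirectSum.addHom_ext fun s x => ?_
  rw [AddMonoidHom.comp_apply, totMap_of, totMap_of, totMap_of]
  refine (of_congr U M (Over.homMk (g ≫ h).unop : Over.mk ((g ≫ h).unop ≫ s) ⟶ Over.mk s)
    ((Over.homMk h.unop : Over.mk (h.unop ≫ g.unop ≫ s) ⟶ Over.mk (g.unop ≫ s)) ≫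
      (Over.homMk g.unop : Over.mk (g.unop ≫ s) ⟶ Over.mk s)) rfl (Category.assoc _ _ _) x).trans ?_
  rw [op_comp, Functor.map_comp]
  rfl

theorem totMap_id (Z : Cᵒᵖ) : totMap U M (𝟙 Z) = AddMonoidHom.id _ := by
  refine DirectSum.addHom_ext fun s x => ?_
  rw [totMap_of]
  refine (of_congr U M (Over.homMk (𝟙 Z : Z ⟶ Z).unop : Over.mk ((𝟙 Z : Z ⟶ Z).unop ≫ s) ⟶ Over.mk s)
    (𝟙 (Over.mk s)) rfl (Category.id_comp s) x).trans ?_
  rw [op_id, CategoryTheory.Functor.map_id]
  rfl

/-- Extension by zero, as a presheaf of abelian groups. -/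
def jAb : Cᵒᵖ ⥤ AddCommGrpCat.{u} where
  obj Z := AddCommGrpCat.of (Tot U M Z)
  map g := AddCommGrpCat.ofHom (totMap U M g)
  map_id Z := AddCommGrpCat.hom_ext (totMap_id U M Z)
  map_comp g h := AddCommGrpCat.hom_ext (totMap_totMap U M g h)

instance jAbModule (Z : Cᵒᵖ) : Module (R.obj Z) ((jAb U M).obj Z) :=
  inferInstanceAs (Module (R.obj Z) (Tot U M Z))

theorem smul_of {Z : Cᵒᵖ} {V : Type u} [AddCommGroup V] [Module (R.obj Z) V] (σ : R.obj Z →+* R.obj Z) (f : Tot U M Z →+ V)
    (h : ∀ (s : Z.unop ⟶ U) (r : R.obj Z) (x : Fib U M Z s),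
      f (DirectSum.of (fun t => Fib U M Z t) s (r • x)) = σ r • f (DirectSum.of (fun t => Fib U M Z t) s x))
    (r : R.obj Z) (x : Tot U M Z) : f (r • x) = σ r • f x := by
  induction x using DirectSum.induction_on with
  | zero => rw [smul_zero, map_zero, smul_zero]
  | of s x =>
    rw [← DirectSum.of_smul]
    exact h s r x
  | add x y hx hy => rw [smul_add, map_add, map_add, hx, hy, smul_add]

theorem totMap_smul {Z W : Cᵒᵖ} (g : Z ⟶ W) (r : R.obj Z) (x : Tot U M Z) :
    totMap U M g (r • x) = R.map g r • totMap U M g x := by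
  induction x using DirectSum.induction_on with
  | zero => rw [smul_zero, map_zero, smul_zero]
  | of s x =>
    rw [← DirectSum.of_smul, totMap_of, totMap_of]
    exact (congrArg _ (fibMap_smul U M g s r x)).trans
      (DirectSum.of_smul (M := fun t => Fib U M W t) (R.obj W) (g.unop ≫ s) (R.map g r) (fibMap U M g s x))
  | add x y hx hy => rw [smul_add, map_add, map_add, hx, hy, smul_add]

/-- Extension by zero of a presheaf of modules. -/
def jP : PresheafOfModules.{u} R :=
  PresheafOfModules.ofPresheaf (jAb U M) fun _ _ g r x => totMap_smul U M g r x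

variable {M M'}

theorem naturality_fib (φ : M ⟶ M') {Z W : Cᵒᵖ} (g : Z ⟶ W) (s : Z.unop ⟶ U) (x : Fib U M Z s) :
    φ.app (op (Over.mk (g.unop ≫ s))) (fibMap U M g s x) = fibMap U M' g s (φ.app (op (Over.mk s)) x) :=
  PresheafOfModules.naturality_apply φ _ x

/-- Functoriality, on sums. -/
def jMapHom (φ : M ⟶ M') (Z : Cᵒᵖ) : Tot U M Z →+ Tot U M' Z :=
  DirectSum.map fun s => (φ.app (op (Over.mk s))).hom.toAddMonoidHom

theorem jMapHom_of (φ : M ⟶ M') (Z : Cᵒᵖ) (s : Z.unop ⟶ U) (x : Fib U M Z s) :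
    jMapHom U φ Z (DirectSum.of (fun s => Fib U M Z s) s x) =
      DirectSum.of (fun s => Fib U M' Z s) s (φ.app (op (Over.mk s)) x) := by
  rw [jMapHom, DirectSum.map_of]
  rfl

theorem jMapHom_smul (φ : M ⟶ M') (Z : Cᵒᵖ) (r : R.obj Z) (x : Tot U M Z) :
    jMapHom U φ Z (r • x) = r • jMapHom U φ Z x :=
  smul_of U M (RingHom.id _) _ (fun s r x => by
    rw [jMapHom_of, jMapHom_of, RingHom.id_apply, ← DirectSum.of_smul]
    exact congrArg _ (map_smul (φ.app (op (Over.mk s))).hom r x)) r x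

theorem jMapHom_natural (φ : M ⟶ M') {Z W : Cᵒᵖ} (g : Z ⟶ W) :
    (jMapHom U φ W).comp (totMap U M g) = (totMap U M' g).comp (jMapHom U φ Z) := by
  refine DirectSum.addHom_ext fun s x => ?_
  rw [AddMonoidHom.comp_apply, AddMonoidHom.comp_apply, totMap_of, jMapHom_of, jMapHom_of, totMap_of,
    naturality_fib]

/-- Functoriality of extension by zero. -/
def jMap (φ : M ⟶ M') : jP U M ⟶ jP U M' :=
  PresheafOfModules.homMk
    { app := fun Z => AddCommGrpCat.ofHom (jMapHom U φ Z)
      naturality := fun _ _ g => AddCommGrpCat.hom_ext (jMapHom_natural U φ g) }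
    fun Z r x => jMapHom_smul U φ Z r x

theorem jMap_injective (φ : M ⟶ M') (hφ : ∀ T, Function.Injective (φ.app T)) (Z : Cᵒᵖ) :
    Function.Injective ((jMap U φ).app Z) :=
  (DirectSum.map_injective _).mpr fun s => hφ (op (Over.mk s))

variable {N : PresheafOfModules.{u} R}

instance objModule (T : (Over U)ᵒᵖ) : Module (R.obj (op T.unop.left)) (M.obj T) :=
  inferInstanceAs (Module (((Over.forget U).op ⋙ R).obj T) (M.obj T))

/-- The components of a map into a restriction. -/
def comp' (γ : M.presheaf ⟶ (Over.forget U).op ⋙ N.presheaf) (T : (Over U)ᵒᵖ) :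
    M.obj T →+ N.obj (op T.unop.left) := (γ.app T).hom

/-- Linearity of a map into a restriction. -/
def IsLin (γ : M.presheaf ⟶ (Over.forget U).op ⋙ N.presheaf) : Prop :=
  ∀ (T : (Over U)ᵒᵖ) (r : R.obj (op T.unop.left)) (x : M.obj T),
    comp' U γ T (r • x) = r • comp' U γ T x

/-- A map out of the sum. -/
def liftHom (γ : M.presheaf ⟶ (Over.forget U).op ⋙ N.presheaf) (Z : Cᵒᵖ) : Tot U M Z →+ N.obj Z :=
  DirectSum.toAddMonoid fun s => comp' U γ (op (Over.mk s))

theorem liftHom_natural (γ : M.presheaf ⟶ (Over.forget U).op ⋙ N.presheaf) {Z W : Cᵒᵖ} (g : Z ⟶ W) :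
    (liftHom U γ W).comp (totMap U M g) = (N.presheaf.map g).hom.comp (liftHom U γ Z) := by
  refine DirectSum.addHom_ext fun s x => ?_
  rw [AddMonoidHom.comp_apply, totMap_of]
  show liftHom U γ W _ = N.presheaf.map g (liftHom U γ Z (DirectSum.of _ s x))
  rw [liftHom, liftHom, DirectSum.toAddMonoid_of, DirectSum.toAddMonoid_of]
  exact congr($(γ.naturality (Over.homMk g.unop : Over.mk (g.unop ≫ s) ⟶ Over.mk s).op) x)

/-- A map into a restriction extends to the extension by zero. -/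
def lift (γ : M.presheaf ⟶ (Over.forget U).op ⋙ N.presheaf) (hγ : IsLin U γ) : jP U M ⟶ N :=
  PresheafOfModules.homMk
    { app := fun Z => AddCommGrpCat.ofHom (liftHom U γ Z)
      naturality := fun _ _ g => AddCommGrpCat.hom_ext (liftHom_natural U γ g) }
    fun Z r x => smul_of U M (RingHom.id _) (liftHom U γ Z) (fun s r x => by
      rw [liftHom, DirectSum.toAddMonoid_of, DirectSum.toAddMonoid_of]
      exact hγ (op (Over.mk s)) r x) r x

theorem lift_of (γ : M.presheaf ⟶ (Over.forget U).op ⋙ N.presheaf) (hγ : IsLin U γ)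
    (Z : Cᵒᵖ) (s : Z.unop ⟶ U) (x : Fib U M Z s) :
    (lift U γ hγ).app Z (DirectSum.of (fun t => Fib U M Z t) s x : Tot U M Z) =
      comp' U γ (op (Over.mk s)) x := by
  show liftHom U γ Z (DirectSum.of _ s x) = _
  rw [liftHom, DirectSum.toAddMonoid_of]

/-- The component of a map out of the extension by zero. -/
def unliftHom (k : jP U M ⟶ N) (T : (Over U)ᵒᵖ) : M.obj T →+ N.obj (op T.unop.left) :=
  ((k.app (op T.unop.left)).hom.toAddMonoidHom : Tot U M (op T.unop.left) →+ N.obj (op T.unop.left)).comp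
    (DirectSum.of (fun t => Fib U M (op T.unop.left) t) T.unop.hom)

theorem unliftHom_natural (k : jP U M ⟶ N) {T T' : (Over U)ᵒᵖ} (m : T ⟶ T') (x : M.obj T) :
    unliftHom U k T' (M.presheaf.map m x) = N.presheaf.map m.unop.left.op (unliftHom U k T x) := by
  refine Eq.trans ?_ (PresheafOfModules.naturality_apply k m.unop.left.op _)
  show k.app (op T'.unop.left) _ = k.app (op T'.unop.left) _
  congr 1
  show _ = totMap U M m.unop.left.op (DirectSum.of (fun t => Fib U M (op T.unop.left) t) T.unop.hom x)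
  rw [totMap_of]
  exact of_congr U M (W := op T'.unop.left) (t := T'.unop.hom) m.unop
    (Over.homMk m.unop.left : Over.mk (m.unop.left ≫ T.unop.hom) ⟶ T.unop) rfl (Over.w m.unop).symm x

/-- The restriction of a map out of the extension by zero. -/
def unlift (k : jP U M ⟶ N) : M.presheaf ⟶ (Over.forget U).op ⋙ N.presheaf where
  app T := AddCommGrpCat.ofHom (unliftHom U k T)
  naturality _ _ m := AddCommGrpCat.hom_ext (AddMonoidHom.ext fun x => unliftHom_natural U k m x)

theorem unlift_app (k : jP U M ⟶ N) (T : (Over U)ᵒᵖ) (x : M.obj T) :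
    comp' U (unlift U k) T x = k.app (op T.unop.left)
      (DirectSum.of (fun t => Fib U M (op T.unop.left) t) T.unop.hom x : Tot U M (op T.unop.left)) := rfl

theorem unlift_isLin (k : jP U M ⟶ N) : IsLin U (unlift U k) := fun T r x => by
  rw [unlift_app, unlift_app]
  refine Eq.trans ?_ (map_smul (k.app (op T.unop.left)).hom r _)
  congr 1
  exact DirectSum.of_smul (M := fun t => Fib U M (op T.unop.left) t) (R.obj (op T.unop.left)) T.unop.hom r x

theorem unlift_lift (γ : M.presheaf ⟶ (Over.forget U).op ⋙ N.presheaf) (hγ : IsLin U γ)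
    (T : (Over U)ᵒᵖ) (x : M.obj T) : comp' U (unlift U (lift U γ hγ)) T x = comp' U γ T x :=
  lift_of U γ hγ (op T.unop.left) T.unop.hom x

theorem unlift_jMap_comp (φ : M ⟶ M') (k : jP U M' ⟶ N) (T : (Over U)ᵒᵖ) (x : M.obj T) :
    comp' U (unlift U (jMap U φ ≫ k)) T x = comp' U (unlift U k) T (φ.app T x) := by
  rw [unlift_app, unlift_app]
  show k.app _ (jMapHom U φ (op T.unop.left) _) = _
  rw [jMapHom_of]
  rfl

end Groth.L15.ExtZero
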